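import Mathlib

/-!
# Finite algebras are quotients of finite free algebras

`exists_finite_free`: for finitely many integral elements of a `B`-algebra `A` there is a finite free
`B`-algebra `C` mapping to `A` whose image contains them; if the elements are nilpotent, then every
element of `C` is, modulo nilpotents, in the image of `B`.
-/

set_option autoImplicit false
universe u

open Polynomial

namespace K252.FinAlg

/-- Every element is, modulo nilpotents, in the image. -/
def NilSurj {B C : Type u} [CommRing B] [CommRing C] (f : B →+* C) : Prop :=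
  ∀ c : C, ∃ b : B, IsNilpotent (c - f b)

lemma NilSurj.id (B : Type u) [CommRing B] : NilSurj (RingHom.id B) := fun c => ⟨c, by simp⟩

/-- The subring of elements congruent to elements of the image modulo nilpotents. -/
def nilRange {B C : Type u} [CommRing B] [CommRing C] (f : B →+* C) : Subring C where
  carrier := {c | ∃ b : B, IsNilpotent (c - f b)}
  mul_mem' := by
    rintro a b ⟨x, hx⟩ ⟨y, hy⟩
    refine ⟨x * y, ?_⟩
    have e : a * b - f (x * y) = a * (b - f y) + f y * (a - f x) := by rw [map_mul]; ring
    rw [e]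
    exact (Commute.all _ _).isNilpotent_add ((Commute.all _ _).isNilpotent_mul_left hy)
      ((Commute.all _ _).isNilpotent_mul_left hx)
  one_mem' := ⟨1, by simp⟩
  add_mem' := by
    rintro a b ⟨x, hx⟩ ⟨y, hy⟩
    refine ⟨x + y, ?_⟩
    have e : a + b - f (x + y) = (a - f x) + (b - f y) := by rw [map_add]; ring
    rw [e]
    exact (Commute.all _ _).isNilpotent_add hx hy
  zero_mem' := ⟨0, by simp⟩
  neg_mem' := by
    rintro a ⟨x, hx⟩
    refine ⟨-x, ?_⟩
    have e : -a - f (-x) = -(a - f x) := by rw [map_neg]; ring
    rw [e]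
    exact hx.neg

lemma mem_nilRange {B C : Type u} [CommRing B] [CommRing C] (f : B →+* C) (c : C) :
    c ∈ nilRange f ↔ ∃ b : B, IsNilpotent (c - f b) := Iff.rfl

lemma mem_nilRange_of_isNilpotent {B C : Type u} [CommRing B] [CommRing C] (f : B →+* C) {c : C}
    (hc : IsNilpotent c) : c ∈ nilRange f := ⟨0, by simpa using hc⟩

/-- Adjoining a root of a monic polynomial over the base. -/
theorem exists_adjoin {B A C : Type u} [CommRing B] [CommRing A] [CommRing C] [Algebra B A]
    [Algebra B C] [Module.Finite B C] [Module.Free B C] (g : C →ₐ[B] A) (a : A) (P : B[X])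
    (hP : P.Monic) (ha : aeval a P = 0) :
    ∃ (C' : Type u) (_ : CommRing C') (_ : Algebra B C') (g' : C' →ₐ[B] A) (j : C →ₐ[B] C')
      (r : C'), Module.Finite B C' ∧ Module.Free B C' ∧ g'.comp j = g ∧ g' r = a ∧
        aeval r P = 0 ∧ ∀ S : Subring C', (∀ c, j c ∈ S) → r ∈ S → S = ⊤ := by
  have hQ : (P.map (algebraMap B C)).Monic := hP.map _
  let C' := AdjoinRoot (P.map (algebraMap B C))
  have h1 : Module.Free C C' := hQ.free_adjoinRoot
  have h2 : Module.Finite C C' := hQ.finite_adjoinRoot
  have h3 : (P.map (algebraMap B C)).eval₂ g.toRingHom a = 0 := by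
    rw [eval₂_map]
    have : g.toRingHom.comp (algebraMap B C) = algebraMap B A := g.comp_algebraMap
    rw [this]
    exact ha
  let g₀ : C' →+* A := AdjoinRoot.lift g.toRingHom a h3
  have hg₀ : ∀ c : C, g₀ (AdjoinRoot.of _ c) = g c := fun c => AdjoinRoot.lift_of h3
  have hcomm : ∀ b : B, g₀ (algebraMap B C' b) = algebraMap B A b := fun b => by
    rw [IsScalarTower.algebraMap_apply B C C']
    exact (hg₀ _).trans (g.commutes b)
  let g' : C' →ₐ[B] A := { g₀ with commutes' := hcomm }
  let j : C →ₐ[B] C' := IsScalarTower.toAlgHom B C C'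
  refine ⟨C', inferInstance, inferInstance, g', j, AdjoinRoot.root _, Module.Finite.trans C C',
    Module.Free.trans (S := C), AlgHom.ext hg₀, AdjoinRoot.lift_root h3, ?_, ?_⟩
  · have := AdjoinRoot.eval₂_root (P.map (algebraMap B C))
    rw [eval₂_map] at this
    exact this
  · intro S hS hr
    refine eq_top_iff.2 fun x hx => ?_
    clear hx
    induction x using AdjoinRoot.induction_on with
    | ih p =>
      induction p using Polynomial.induction_on' with
      | add p q hp hq => rw [map_add]; exact S.add_mem hp hq
      | monomial n c =>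
        rw [← C_mul_X_pow_eq_monomial, map_mul, map_pow, AdjoinRoot.mk_X]
        exact S.mul_mem (hS c) (S.pow_mem hr n)

/-- Finitely many integral elements lie in the image of a finite free algebra. -/
theorem exists_finite_free {B A : Type u} [CommRing B] [CommRing A] [Algebra B A] (s : Finset A)
    (hs : ∀ a ∈ s, IsIntegral B a) :
    ∃ (C : Type u) (_ : CommRing C) (_ : Algebra B C) (g : C →ₐ[B] A), Module.Finite B C ∧
      Module.Free B C ∧ (s : Set A) ⊆ Set.range g ∧
        ((∀ a ∈ s, IsNilpotent a) → NilSurj (algebraMap B C)) := by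
  classical
  induction s using Finset.induction_on with
  | empty =>
    exact ⟨B, inferInstance, inferInstance, Algebra.ofId B A, inferInstance, inferInstance,
      by simp, fun _ c => ⟨c, by simp⟩⟩
  | insert a s has ih =>
    obtain ⟨C, _, _, g, h1, h2, h3, h4⟩ := ih fun b hb => hs b (Finset.mem_insert_of_mem hb)
    obtain ⟨P, hP, ha, hn⟩ : ∃ P : B[X], P.Monic ∧ aeval a P = 0 ∧
        (IsNilpotent a → ∃ n : ℕ, P = X ^ n) := by
      by_cases hna : IsNilpotent a
      · obtain ⟨n, hn⟩ := hna
        exact ⟨X ^ n, monic_X_pow n, by simpa using hn, fun _ => ⟨n, rfl⟩⟩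
      · obtain ⟨P, hP, ha⟩ := hs a (Finset.mem_insert_self a s)
        exact ⟨P, hP, ha, fun h => (hna h).elim⟩
    obtain ⟨C', _, _, g', j, r, e1, e2, e3, e4, e5, e6⟩ := exists_adjoin g a P hP ha
    refine ⟨C', inferInstance, inferInstance, g', e1, e2, ?_, ?_⟩
    · intro b hb
      obtain rfl | hb := Finset.mem_insert.1 (Finset.mem_coe.1 hb)
      · exact ⟨r, e4⟩
      · obtain ⟨c, rfl⟩ := h3 hb
        exact ⟨j c, by rw [← e3]; rfl⟩
    · intro h c
      obtain ⟨n, rfl⟩ := hn (h a (Finset.mem_insert_self a s))
      have h5 := h4 fun b hb => h b (Finset.mem_insert_of_mem hb)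
      have hr : IsNilpotent r := ⟨n, by simpa using e5⟩
      have : nilRange (algebraMap B C') = ⊤ := by
        refine e6 _ (fun c => ?_) (mem_nilRange_of_isNilpotent _ hr)
        obtain ⟨b, hb⟩ := h5 c
        refine ⟨b, ?_⟩
        have := hb.map j.toRingHom
        simpa using this
      have hc : c ∈ nilRange (algebraMap B C') := by rw [this]; trivial
      exact hc

/-- A finite algebra is a quotient of a finite free one, with a control of nilpotents. -/
theorem exists_surjective {B A : Type u} [CommRing B] [CommRing A] [Algebra B A]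
    [Module.Finite B A] :
    ∃ (C : Type u) (_ : CommRing C) (_ : Algebra B C) (g : C →ₐ[B] A), Module.Finite B C ∧
      Module.Free B C ∧ Function.Surjective g ∧
        (NilSurj (algebraMap B A) → NilSurj (algebraMap B C)) := by
  classical
  obtain ⟨t, ht⟩ := (inferInstance : Algebra.FiniteType B A).out
  by_cases hn : NilSurj (algebraMap B A)
  · choose b hb using hn
    obtain ⟨C, _, _, g, h1, h2, h3, h4⟩ := exists_finite_free (B := B)
      (t.image fun a => a - algebraMap B A (b a)) (fun a _ => Algebra.IsIntegral.isIntegral a)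
    refine ⟨C, inferInstance, inferInstance, g, h1, h2, ?_, fun _ => h4 ?_⟩
    · rw [← AlgHom.range_eq_top, eq_top_iff, ← ht, Algebra.adjoin_le_iff]
      intro a ha
      obtain ⟨c, hc⟩ := h3 (Finset.mem_coe.2 (Finset.mem_image_of_mem _ (Finset.mem_coe.1 ha)))
      refine ⟨c + algebraMap B C (b a), ?_⟩
      change g (c + algebraMap B C (b a)) = a
      rw [map_add, hc, g.commutes]
      ring
    · intro a ha
      obtain ⟨x, -, rfl⟩ := Finset.mem_image.1 ha
      exact hb x
  · obtain ⟨C, _, _, g, h1, h2, h3, -⟩ := exists_finite_free (B := B) t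
      (fun a _ => Algebra.IsIntegral.isIntegral a)
    refine ⟨C, inferInstance, inferInstance, g, h1, h2, ?_, fun h => (hn h).elim⟩
    rw [← AlgHom.range_eq_top, eq_top_iff, ← ht, Algebra.adjoin_le_iff]
    exact h3

end K252.FinAlg
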