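import Groth.Agent.FlatMor.K252.FinAlg
import Groth.Agent.FlatMor.K252.TopPc
import Groth.Agent.Dual.H354.FlatClosed

/-!
# Finite morphisms between affine schemes factor through finite free ones

`exists_factor`: a finite morphism `r : W ⟶ P` of affine schemes is `c ≫ h` with `c` a closed immersion and
`h` finite, flat and of finite presentation; if `Γ(W)` is generated over `Γ(P)` by nilpotents then `h` is a
closed embedding of spaces.
-/

set_option autoImplicit false
universe u

open CategoryTheory CategoryTheory.Limits AlgebraicGeometry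
open K252.FinAlg K252.TopPush K252.TopPc

attribute [local instance] HasDerivedCategory.standard

namespace K252.FinGeom

/-- The direct image of the structure sheaf of a finite flat morphism locally of finite presentation. -/
theorem PO_of_finite_flat {T P : Scheme.{u}} (h : T ⟶ P) [IsFinite h] [Flat h]
    [LocallyOfFinitePresentation h] : PO h := by
  intro m
  refine Groth.Agent.Dual.H354.FlatClosed.pc_push_of_affine h (fun y => ?_) m
  obtain ⟨V, hV, hy, -⟩ := exists_isAffineOpen_mem_and_subset (x := y) (U := ⊤) trivial
  refine ⟨V, hV, hy, ?_⟩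
  let _ := (h.app V).hom.toAlgebra
  have h1 : Module.Finite Γ(P, V) Γ(T, h ⁻¹ᵁ V) := h.finite_app V hV
  have h2 : Module.Flat Γ(P, V) Γ(T, h ⁻¹ᵁ V) := by
    have := Flat.flat_appLE (f := h) hV (hV.preimage h) le_rfl
    rw [Scheme.Hom.appLE_eq_app] at this
    exact this
  have h3 : Algebra.FinitePresentation Γ(P, V) Γ(T, h ⁻¹ᵁ V) := by
    have := LocallyOfFinitePresentation.finitePresentation_appLE (f := h) hV (hV.preimage h) le_rfl
    rw [Scheme.Hom.appLE_eq_app] at this
    exact this
  have h4 : Module.FinitePresentation Γ(P, V) Γ(T, h ⁻¹ᵁ V) :=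
    Module.FinitePresentation.of_finite_of_finitePresentation _ _
  have h5 : Module.Projective Γ(P, V) Γ(T, h ⁻¹ᵁ V) :=
    Module.Flat.projective_of_finitePresentation
  exact Groth.Agent.Flat2H.FPInf.of_projective _

/-- A ring map which is surjective modulo nilpotents is injective on spectra. -/
theorem injective_comap {B C : Type u} [CommRing B] [CommRing C] (f : B →+* C) (hf : NilSurj f) :
    Function.Injective (PrimeSpectrum.comap f) := by
  intro p q hpq
  have key : ∀ p q : PrimeSpectrum C, PrimeSpectrum.comap f p = PrimeSpectrum.comap f q →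
      p.asIdeal ≤ q.asIdeal := by
    intro p q hpq c hc
    obtain ⟨b, hb⟩ := hf c
    have hp : c - f b ∈ p.asIdeal := nilradical_le_prime p.asIdeal hb
    have hq : c - f b ∈ q.asIdeal := nilradical_le_prime q.asIdeal hb
    have h1 : f b ∈ p.asIdeal := by
      have := p.asIdeal.sub_mem hc hp
      simpa using this
    have h2 : b ∈ (PrimeSpectrum.comap f p).asIdeal := h1
    rw [hpq] at h2
    have h3 : f b ∈ q.asIdeal := h2
    have := q.asIdeal.add_mem hq h3
    simpa using this
  exact PrimeSpectrum.ext (le_antisymm (key p q hpq) (key q p hpq.symm))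

/-- A finite morphism of affine schemes is a closed immersion followed by a finite flat morphism. -/
theorem exists_factor {W P : Scheme.{u}} [IsAffine W] [IsAffine P] (r : W ⟶ P) [IsFinite r] :
    ∃ (T : Scheme.{u}) (c : W ⟶ T) (h : T ⟶ P), IsClosedImmersion c ∧ IsFinite h ∧ Flat h ∧
      LocallyOfFinitePresentation h ∧ c ≫ h = r ∧ IsAffine T ∧
        (NilSurj r.appTop.hom → TopClosed h) := by
  let _ := r.appTop.hom.toAlgebra
  have h0 : Module.Finite Γ(P, ⊤) Γ(W, ⊤) := r.finite_appTop
  obtain ⟨C, _, _, g, h1, h2, h3, h4⟩ := exists_surjective (B := Γ(P, ⊤)) (A := Γ(W, ⊤))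
  have h5 : Module.FinitePresentation Γ(P, ⊤) C := Module.finitePresentation_of_projective _ _
  have h6 : Algebra.FinitePresentation Γ(P, ⊤) C := inferInstance
  let a : Γ(P, ⊤) ⟶ CommRingCat.of C := CommRingCat.ofHom (algebraMap Γ(P, ⊤) C)
  let g' : CommRingCat.of C ⟶ Γ(W, ⊤) := CommRingCat.ofHom g.toRingHom
  have hag : a ≫ g' = r.appTop := by
    ext b
    exact g.commutes b
  have i1 : IsClosedImmersion (Spec.map g') := IsClosedImmersion.spec_of_surjective _ h3
  have i2 : IsFinite (Spec.map a) := by
    rw [IsFinite.SpecMap_iff]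
    exact RingHom.finite_algebraMap.2 h1
  have i3 : Flat (Spec.map a) := by
    rw [Flat.SpecMap_iff]
    exact RingHom.flat_algebraMap_iff.2 inferInstance
  have i4 : LocallyOfFinitePresentation (Spec.map a) := by
    rw [LocallyOfFinitePresentation.SpecMap_iff]
    exact RingHom.finitePresentation_algebraMap.2 h6
  refine ⟨Spec (.of C), W.isoSpec.hom ≫ Spec.map g', Spec.map a ≫ P.isoSpec.inv, inferInstance,
    inferInstance, inferInstance, inferInstance, ?_, inferInstance, fun hn => ?_⟩
  · have : Spec.map g' ≫ Spec.map a = Spec.map r.appTop := by rw [← Spec.map_comp, hag]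
    rw [Category.assoc, reassoc_of% this, Scheme.isoSpec_hom_naturality_assoc, Iso.hom_inv_id,
      Category.comp_id]
  · have i5 : TopClosed (Spec.map a) := by
      refine ⟨Topology.IsClosedEmbedding.of_continuous_injective_isClosedMap
        (Spec.map a).continuous ?_ (Spec.map a).isClosedMap⟩
      exact injective_comap _ (h4 hn)
    infer_instance

end K252.FinGeom
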