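import Groth.Agent.FlatMor.K252.ThickPush
import Groth.Agent.Dcoh.DerPull
import Groth.Agent.S0998
import Groth.Agent.S1112

/-!
# Relative pseudo-coherence and direct image along finite morphisms
-/

set_option autoImplicit false
universe u

open CategoryTheory CategoryTheory.Limits AlgebraicGeometry
open Groth.Agent.PerfA Groth.Agent.PerfA.Restrict Groth.Agent.PerfC.PcLocal Groth.Agent.PerfA.QCohD
open Groth.Agent.PerfC.ClosedImmPc (pushD)
open K240.PushTest K240.RelData K240.RelChart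
open K252.FinAlg K252.TopPush K252.TopPc K252.FinGeom K252.ThickPush
open Groth.Agent

attribute [local instance] HasDerivedCategory.standard

namespace K252.FinPush

variable {X Y S P Q W V : Scheme.{u}}

/-- Derived direct images along equal morphisms. -/
noncomputable def rpushCongr {f g : X ⟶ Y} (h : f = g) [DCoh.HasRpush f] [DCoh.HasRpush g] :
    DCoh.Rpush f ≅ DCoh.Rpush g :=
  eqToIso (by subst h; rfl)

variable {p : X ⟶ S} {q : Y ⟶ S} {i : X ⟶ Y}

/-- Comparison of the tests for a finite morphism. -/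
theorem test_pullDatum_iff (w : i ≫ q = p) [DCoh.HasRpush i] (D : Datum q) {k : W ⟶ X}
    [IsOpenImmersion k] {i' : W ⟶ D.W}
    (sq : IsPullback k i' i D.j) (c : W ⟶ V) [IsClosedImmersion c] (h : V ⟶ D.P) [Flat h]
    [LocallyOfFinitePresentation h] (hc : c ≫ h = i' ≫ D.i) [IsFinite h] (m : ℤ)
    (E : DCoh.D X) (hE : DCoh.IsQCohD E) :
    D.test m ((DCoh.Rpush i).obj E) ↔ (pullDatum w D sq c h hc).test m E := by
  have := Dcoh.DerSch.hasRpush i'
  have := Dcoh.DerSch.hasRpush D.i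
  have := Dcoh.DerSch.hasRpush c
  have := Dcoh.DerSch.hasRpush h
  have := Dcoh.DerSch.hasRpush (i' ≫ D.i)
  have := Dcoh.DerSch.hasRpush (c ≫ h)
  obtain ⟨e1⟩ := Dcoh.DerSch.exists_rpushRestrictIso i i' k D.j sq
  obtain ⟨e2⟩ := Dcoh.DerPull.exists_rpushCompIso i' D.i
  obtain ⟨e3⟩ := Dcoh.DerPull.exists_rpushCompIso c h
  have e4 := PerfC.LpullFlat.rpushIso D.i
  let e : (pushD D.i).obj ((restrictD D.j).obj ((DCoh.Rpush i).obj E)) ≅
      (DCoh.Rpush h).obj ((DCoh.Rpush c).obj ((restrictD k).obj E)) :=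
    (pushD D.i).mapIso (e1.app E) ≪≫ e4.symm.app _ ≪≫ e2.app _ ≪≫ (rpushCongr hc.symm).app _ ≪≫
      e3.symm.app _
  have hq : DCoh.IsQCohD ((DCoh.Rpush c).obj ((restrictD k).obj E)) :=
    Groth.Agent.S0998.result c _ (isQCohD_restrictD k hE)
  have h1 := (Groth.Agent.S1112.result h (PO_of_finite_flat h) _ hq m)
  refine (Iff.intro (pc_of_iso e) (pc_of_iso e.symm)).trans (h1.symm.trans ?_)
  have e5 := (PerfC.LpullFlat.rpushIso c).app ((restrictD k).obj E)
  exact ⟨pc_of_iso e5, pc_of_iso e5.symm⟩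

/-- Relative pseudo-coherence and direct image along a finite morphism. -/
theorem isPseudoCoherentRel_iff_Rpush (p : X ⟶ S) (q : Y ⟶ S) [LocallyOfFiniteType p]
    [LocallyOfFiniteType q] (i : X ⟶ Y) [IsFinite i] (w : i ≫ q = p) [DCoh.HasRpush i] (m : ℤ)
    (E : DCoh.D X) (hE : DCoh.IsQCohD E) :
    DerSch.IsPseudoCoherentRel p m E ↔ DerSch.IsPseudoCoherentRel q m ((DCoh.Rpush i).obj E) := by
  have H : ∀ D : Datum q, IsAffine D.P → ∃ (W V : Scheme.{u}) (k : W ⟶ X) (_ : IsOpenImmersion k)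
      (i' : W ⟶ D.W) (_ : IsPullback k i' i D.j) (c : W ⟶ V) (_ : IsClosedImmersion c)
      (h : V ⟶ D.P) (_ : Flat h) (_ : LocallyOfFinitePresentation h) (_ : IsFinite h),
        c ≫ h = i' ≫ D.i := by
    intro D hD
    have h5 := IsPullback.of_hasPullback i D.j
    have hW : IsAffine D.W := isAffine_of_isAffineHom D.i
    have hW' : IsAffine (pullback i D.j) := isAffine_of_isAffineHom (pullback.snd i D.j)
    obtain ⟨V, c, h, e1, e2, e3, e4, e5, -, e6⟩ :=
      K252.FinGeom.exists_factor (pullback.snd i D.j ≫ D.i)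
    exact ⟨pullback i D.j, V, pullback.fst i D.j, inferInstance, pullback.snd i D.j, h5, c, e1, h,
      e3, e4, e2, e5⟩
  constructor
  · intro hE'
    refine isPseudoCoherentRel_of_data fun y => ?_
    obtain ⟨D, v, hv, hD, -⟩ := exists_datum q y ⊤ trivial
    obtain ⟨W, V, k, _, i', sq, c, _, h, _, _, _, hc⟩ := H D hD
    exact ⟨D, v, hv, (test_pullDatum_iff w D sq c h hc m E hE).2
      (test_of_isPseudoCoherentRel hE' _)⟩
  · intro hE'
    refine isPseudoCoherentRel_of_data fun x => ?_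
    obtain ⟨D, v, hv, hD, -⟩ := exists_datum q (i x) ⊤ trivial
    obtain ⟨W, V, k, _, i', sq, c, _, h, _, _, _, hc⟩ := H D hD
    obtain ⟨a, ha, -⟩ := Scheme.exists_preimage_of_isPullback sq x v hv.symm
    exact ⟨pullDatum w D sq c h hc, a, ha, (test_pullDatum_iff w D sq c h hc m E hE).1
      (test_of_isPseudoCoherentRel hE' D)⟩

end K252.FinPush
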