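import Groth.Agent.KSix.K240.RelBasic
import Groth.Agent.Dcoh.FTFP
import Groth.Prelude.Def_ClSub2

/-!
# Low degree pseudo-coherence of modules; finite type along closed immersions

* `pc_zero_iff`: `N[0]` is `0`-pseudo-coherent iff `N` is of finite type;
* `isFT_push_iff`: for a closed immersion `i`, `i_* N` is of finite type iff `N` is.
-/

set_option autoImplicit false
universe u

open CategoryTheory CategoryTheory.Limits AlgebraicGeometry DerivedCategory Opposite
open Groth.Agent.PerfA Groth.Agent.PerfA.Restrict Groth.Agent.PerfC.PcLocal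
open Groth.Agent.PerfC.ClosedPush Groth.Agent.PerfC.ClosedImmPc Groth.Agent.PerfC.PcPush
open Groth.Agent.PerfC.PCCover

attribute [local instance] HasDerivedCategory.standard

namespace K252.ModPC

variable {X W P : Scheme.{u}}

/-- Cohomology of a module placed in degree `0`. -/
theorem isZero_HD_inD (M : X.Modules) (j : ℤ) (hj : j ≠ 0) : IsZero (DCoh.HD (DCoh.inD X M) j) := by
  refine IsZero.of_iso ?_ ((DerivedCategory.homologyFunctor X.Modules j).mapIso
    ((DerivedCategory.singleFunctorIsoCompQ X.Modules 0).app M) ≪≫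
      (DerivedCategory.homologyFunctorFactors X.Modules j).app
        ((HomologicalComplex.single X.Modules (ComplexShape.up ℤ) 0).obj M))
  exact HomologicalComplex.isZero_single_obj_homology _ _ _ _ hj

/-- Cohomology of a module placed in degree `0`. -/
noncomputable def HDzero (M : X.Modules) : DCoh.HD (DCoh.inD X M) 0 ≅ M :=
  (DerivedCategory.homologyFunctor X.Modules 0).mapIso
    ((DerivedCategory.singleFunctorIsoCompQ X.Modules 0).app M) ≪≫
      (DerivedCategory.homologyFunctorFactors X.Modules 0).app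
        ((HomologicalComplex.single X.Modules (ComplexShape.up ℤ) 0).obj M) ≪≫
      (HomologicalComplex.homologyFunctorSingleIso X.Modules (ComplexShape.up ℤ) 0).app M

instance isLE_inD (M : X.Modules) : (DCoh.inD X M).IsLE 0 :=
  (isLE_iff _ _).2 fun i hi => isZero_HD_inD M i (by lia)

/-- Modules are `m`-pseudo-coherent for `m > 0`. -/
theorem pc_inD_of_pos (M : X.Modules) {m : ℤ} (hm : 0 < m) :
    DCoh.IsPseudoCoherentD m (DCoh.inD X M) :=
  pc_of_vanish fun i hi => isZero_HD_inD M i (by lia)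

/-- A module is `0`-pseudo-coherent iff it is of finite type. -/
theorem pc_zero_iff (M : X.Modules) :
    DCoh.IsPseudoCoherentD 0 (DCoh.inD X M) ↔ CohB1.IsFT M := by
  constructor
  · intro h
    exact Groth.Agent.CohqB.FiniteType.IsFT.of_iso (isFT_of_pc le_rfl h) (HDzero M)
  · intro h
    refine pc_of_cover _ fun x => ?_
    obtain ⟨V, hx, hV⟩ := exists_cover_of_isFT (DCoh.inD X M) 0
      (Groth.Agent.CohqB.FiniteType.IsFT.of_iso h (HDzero M).symm) x
    refine ⟨V, V.ι, inferInstance, ⟨x, hx⟩, rfl, ?_⟩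
    have : ((restrictD V.ι).obj (DCoh.inD X M)).IsLE 0 := ExactD.isLE_map _ _ _
    obtain ⟨n, C, α, β, γ, hT, hC⟩ := hV.exists_triangle (q := -1) (by lia)
    exact (pc_iff_of_triangle hT (pc_single_freeMod n 0) 0).2
      (pc_of_vanish fun i hi => isZero_of_isLE C (-1) i (by lia))

/-- `O_P → i_* O_W` is an epimorphism for a closed immersion `i`. -/
theorem epi_unitToPush (i : W ⟶ P) [IsClosedImmersion i] : Epi (ClSub.unitToPush i) := by
  refine epi_of_locally_surjective _ fun U s x hx => ?_
  obtain ⟨V, hV, hxV, hVU⟩ := exists_isAffineOpen_mem_and_subset hx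
  obtain ⟨t, ht⟩ := i.app_surjective V hV
    (((Scheme.Modules.pushforward i).obj (Coh.structureModule W)).presheaf.map
      (homOfLE hVU).op s : Γ(W, i ⁻¹ᵁ V))
  exact ⟨V, hVU, t, hxV, ht⟩

/-- Direct image of quotients of free modules along a closed immersion. -/
theorem exists_epi_push (i : W ⟶ P) [IsClosedImmersion i] {n : ℕ} {N : W.Modules}
    (q : FlatMod.freeMod W n ⟶ N) [Epi q] :
    ∃ q' : FlatMod.freeMod P n ⟶ (Scheme.Modules.pushforward i).obj N, Epi q' := by
  have : PreservesFiniteCoproducts (Scheme.Modules.pushforward i) := inferInstance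
  have h0 := epi_unitToPush i
  let e : (Scheme.Modules.pushforward i).obj (FlatMod.freeMod W n) ≅
      ∐ fun _ : Fin n => (Scheme.Modules.pushforward i).obj (Coh.structureModule W) :=
    PreservesCoproduct.iso (Scheme.Modules.pushforward i) _
  let a : FlatMod.freeMod P n ⟶ ∐ fun _ : Fin n => (Scheme.Modules.pushforward i).obj
    (Coh.structureModule W) := Limits.Sigma.map fun _ => ClSub.unitToPush i
  have ha : Epi a := inferInstance
  have hq : Epi ((Scheme.Modules.pushforward i).map q) := inferInstance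
  exact ⟨a ≫ e.inv ≫ (Scheme.Modules.pushforward i).map q, inferInstance⟩

/-- Finite type modules and closed immersions. -/
theorem isFT_push_iff (i : W ⟶ P) [IsClosedImmersion i] (N : W.Modules) :
    CohB1.IsFT ((Scheme.Modules.pushforward i).obj N) ↔ CohB1.IsFT N := by
  constructor
  · intro h
    refine Groth.Agent.Dcoh.FTFP.isFT_of_cover fun z => ?_
    obtain ⟨V, n, q, hV, hq⟩ := exists_epi_of_isFT h (i z)
    obtain ⟨ψ, hψ⟩ := exists_adjoint (i ∣_ V)
      (q ≫ (Groth.Agent.PerfC.PushRestrict.pushforwardRestrictIso i V).hom.app N)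
      (epi_comp _ _)
    refine ⟨(i ⁻¹ᵁ V : W.Opens), (i ⁻¹ᵁ V).ι, inferInstance, ⟨⟨z, hV⟩, rfl⟩, ?_⟩
    exact Groth.Agent.Dcoh.FTFP.isFT_of_epi_finLocFree (isFinLocFree_freeMod n) ψ
  · intro h
    refine Groth.Agent.Dcoh.FTFP.isFT_of_cover fun p => ?_
    by_cases hp : p ∈ Set.range i
    · obtain ⟨z, rfl⟩ := hp
      obtain ⟨V₀, n, q, hz, hq⟩ := exists_epi_of_isFT h z
      obtain ⟨V, hzV, -, hVW⟩ := exists_preimage_open i V₀ z hz ⊤ trivial
      refine ⟨V, V.ι, inferInstance, ⟨⟨i z, hzV⟩, rfl⟩, ?_⟩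
      let l := W.homOfLE hVW
      let q₁ : FlatMod.freeMod (i ⁻¹ᵁ V : W.Opens) n ⟶ N.restrict (i ⁻¹ᵁ V).ι :=
        (freeModRestrict l n).inv ≫ (Scheme.Modules.restrictFunctor l).map q ≫
          ((Scheme.Modules.restrictFunctorComp l V₀.ι).symm.app N).hom ≫
          (Scheme.Modules.restrictFunctorCongr (W.homOfLE_ι hVW)).hom.app N
      have hq₁ : Epi q₁ := inferInstance
      obtain ⟨q', hq'⟩ := exists_epi_push (i ∣_ V) q₁
      have h3 := Groth.Agent.Dcoh.FTFP.isFT_of_epi_finLocFree (isFinLocFree_freeMod n) q'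
      exact Groth.Agent.Dcoh.FTFP.isFT_of_iso
        ((Groth.Agent.PerfC.PushRestrict.pushforwardRestrictIso i V).symm.app N) h3
    · let V : P.Opens := ⟨(Set.range i)ᶜ, i.isClosedEmbedding.isClosed_range.isOpen_compl⟩
      refine ⟨V, V.ι, inferInstance, ⟨⟨p, hp⟩, rfl⟩, ?_⟩
      have h0 : IsEmpty (i ⁻¹ᵁ V : W.Opens).toScheme := ⟨fun z => z.2 ⟨z.1, rfl⟩⟩
      have h1 : IsZero (N.restrict (i ⁻¹ᵁ V).ι) := (isZero_iff_stalk _).2 fun x => h0.elim x
      have h2 : IsZero (((Scheme.Modules.pushforward i).obj N).restrict V.ι) :=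
        ((Scheme.Modules.pushforward (i ∣_ V)).map_isZero h1).of_iso
          ((Groth.Agent.PerfC.PushRestrict.pushforwardRestrictIso i V).app N)
      exact Groth.Agent.Dcoh.FTFP.isFT_of_epi_finLocFree (isFinLocFree_of_isZero h2) (𝟙 _)

/-- Direct image of a module placed in degree `0`. -/
noncomputable def pushInD (i : W ⟶ P) [IsClosedImmersion i] (N : W.Modules) :
    (pushD i).obj (DCoh.inD W N) ≅ DCoh.inD P ((Scheme.Modules.pushforward i).obj N) :=
  ((Scheme.Modules.pushforward i).mapDerivedCategorySingleFunctor 0).app N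

end K252.ModPC
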