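import Groth.Agent.FlatMor.K252.FinGeom
import Groth.Agent.S1302
import Groth.Prelude.Def_MoreMor

/-!
# Closed immersions up to nilpotents

For `t : Z ⟶ X` a thickening and `i : X ⟶ Y` with `t ≫ i` a closed immersion: `i` is affine, a closed
embedding of spaces, on affines `Γ(X)` is the image of `Γ(Y)` modulo nilpotents, and `i` is finite as soon as
it is locally of finite type.
-/

set_option autoImplicit false
universe u

open CategoryTheory CategoryTheory.Limits AlgebraicGeometry
open K252.FinAlg K252.TopPush K252.TopPc K252.FinGeom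

namespace K252.NilGeom

variable {X Y Z : Scheme.{u}}

/-- Modulo nilpotents, functions on `X` come from `Y`. -/
theorem nilSurj_appTop [IsAffine X] [IsAffine Y] (i : X ⟶ Y) (t : Z ⟶ X) [IsClosedImmersion t]
    [Surjective t] [IsClosedImmersion (t ≫ i)] : NilSurj i.appTop.hom := by
  intro c
  obtain ⟨b, hb⟩ := (t ≫ i).app_surjective ⊤ (isAffineOpen_top Y) (t.appTop c)
  refine ⟨b, ?_⟩
  have h1 : t.appTop (c - i.appTop b) = 0 := by
    rw [map_sub, sub_eq_zero, ← hb]
    rw [Scheme.Hom.comp_app]
    rfl
  have h2 : X.basicOpen (c - i.appTop b) = ⊥ := by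
    have h3 : t ⁻¹ᵁ X.basicOpen (c - i.appTop b) = ⊥ := by
      rw [Scheme.preimage_basicOpen]
      erw [h1]
      exact Scheme.basicOpen_zero _ _
    refine eq_bot_iff.2 fun x hx => ?_
    obtain ⟨z, rfl⟩ := t.surjective x
    have : z ∈ t ⁻¹ᵁ X.basicOpen (c - i.appTop b) := hx
    rw [h3] at this
    exact this.elim
  exact (Scheme.isNilpotent_iff_basicOpen_eq_bot_of_isCompact (isAffineOpen_top X).isCompact _).2 h2

variable (i : X ⟶ Y) (t : Z ⟶ X) [IsClosedImmersion t] [Surjective t] [IsClosedImmersion (t ≫ i)]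

include t

/-- A closed immersion up to nilpotents is affine. -/
theorem isAffineHom : IsAffineHom i :=
  (Groth.Agent.S1302.result t (𝟙 Y) (t ≫ i) i ⟨inferInstance, inferInstance⟩
    ⟨inferInstance, inferInstance⟩ (by simp)).1 inferInstance

omit [IsClosedImmersion t] in
/-- A closed immersion up to nilpotents is a closed embedding of spaces. -/
theorem topClosed : TopClosed i := by
  have h1 : Topology.IsClosedEmbedding (t ≫ i) := (t ≫ i).isClosedEmbedding
  refine ⟨Topology.IsClosedEmbedding.of_continuous_injective_isClosedMap i.continuous ?_ ?_⟩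
  · intro x y hxy
    obtain ⟨x, rfl⟩ := t.surjective x
    obtain ⟨y, rfl⟩ := t.surjective y
    rw [← Scheme.Hom.comp_apply, ← Scheme.Hom.comp_apply] at hxy
    rw [h1.injective hxy]
  · intro A hA
    have h2 := h1.isClosedMap _ (hA.preimage t.continuous)
    convert h2 using 1
    ext y
    constructor
    · rintro ⟨x, hx, rfl⟩
      obtain ⟨z, rfl⟩ := t.surjective x
      exact ⟨z, hx, by rw [Scheme.Hom.comp_apply]⟩
    · rintro ⟨z, hz, rfl⟩
      exact ⟨t z, hz, by rw [Scheme.Hom.comp_apply]⟩

/-- A closed immersion up to nilpotents which is locally of finite type is finite. -/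
theorem isFinite [LocallyOfFiniteType i] : IsFinite i := by
  have h1 : IsAffineHom i := isAffineHom i t
  have h2 : UniversallyClosed i := UniversallyClosed.of_comp_surjective t i
  have h3 : IsIntegralHom i := IsIntegralHom.iff_universallyClosed_and_isAffineHom.2 ⟨h2, h1⟩
  exact (IsFinite.iff_isIntegralHom_and_locallyOfFiniteType i).2 ⟨h3, inferInstance⟩

/-- Base change of a closed immersion up to nilpotents. -/
theorem exists_baseChange {W V : Scheme.{u}} {k : W ⟶ X} {i' : W ⟶ V} {j : V ⟶ Y}
    (sq : IsPullback k i' i j) : ∃ (Z' : Scheme.{u}) (t' : Z' ⟶ W),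
      IsClosedImmersion t' ∧ Surjective t' ∧ IsClosedImmersion (t' ≫ i') := by
  refine ⟨pullback t k, pullback.snd t k, inferInstance, inferInstance, ?_⟩
  exact MorphismProperty.of_isPullback ((IsPullback.of_hasPullback t k).paste_vert sq)
    (inferInstanceAs (IsClosedImmersion (t ≫ i)))

end K252.NilGeom
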