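import Groth.Agent.FlatMor.K252.ModPC
import Groth.Agent.Dual.H370.HomOKill
import Groth.Agent.AssSch.K109.AffineHom
import Groth.Agent.PerfA.GB3Ring
import Groth.Agent.PerfC.TildePush
import Groth.Agent.S6935
import Groth.Agent.PerfC.FPSections
import Groth.Prelude.Def_Flatn

/-!
# Relative pseudo-coherence of modules

* `specDatum`: the datum `Spec Γ(X, U) → Spec Γ(Y, V)[x_1, …, x_n]` of a chart;
* `specDatum_test_iff`: for quasi-coherent `M` the test on `M[0]` is pseudo-coherence of the module of sections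
  over the polynomial ring.
-/

set_option autoImplicit false
universe u

open CategoryTheory CategoryTheory.Limits AlgebraicGeometry DerivedCategory Opposite
open Groth.Agent.PerfA Groth.Agent.PerfA.Restrict Groth.Agent.PerfC.PcLocal
open Groth.Agent.PerfC.ClosedPush Groth.Agent.PerfC.ClosedImmPc Groth.Agent.PerfC.PcPush
open K240.PushTest K240.ChartChange K240.RelData K240.RelChart K252.ModPC

attribute [local instance] HasDerivedCategory.standard

namespace K252.RelMod

variable {X Y W P : Scheme.{u}} (f : X ⟶ Y)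

/-- The datum of a chart on `Spec Γ(X, U)`. -/
noncomputable def specDatum {U : X.Opens} {V : Y.Opens} (hU : IsAffineOpen U)
    (hV : IsAffineOpen V) (h : U ≤ f ⁻¹ᵁ V) {n : ℕ} (φ : MvPolynomial (Fin n) Γ(Y, V) →+* Γ(X, U))
    (hφ : DerSch.IsChart f U V h φ) : Datum f where
  W := Spec Γ(X, U)
  P := Spec (CommRingCat.of (MvPolynomial (Fin n) Γ(Y, V)))
  j := hU.fromSpec
  i := Spec.map (CommRingCat.ofHom φ)
  p := Spec.map (CommRingCat.ofHom MvPolynomial.C) ≫ hV.fromSpec
  open_j := inferInstance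
  closed_i := isClosedImmersion_specMap φ hφ.1
  flat_p := (chartDatum f hU hV h φ hφ).flat_p
  fp_p := (chartDatum f hU hV h φ hφ).fp_p
  w := by
    have e : Spec.map (CommRingCat.ofHom φ) ≫ Spec.map (CommRingCat.ofHom MvPolynomial.C) =
        Spec.map (f.appLE V U h) := by
      rw [← Spec.map_comp]
      congr 1
      ext r
      exact congr($(hφ.2) r)
    rw [← Category.assoc, e, IsAffineOpen.SpecMap_appLE_fromSpec f hV hU h]

section Spec

variable {R S : CommRingCat.{u}} (φ : R ⟶ S)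

/-- Pseudo-coherence of the direct image of `N~` along `Spec φ`. -/
theorem pc_push_tilde_iff [IsClosedImmersion (Spec.map φ)] (N : ModuleCat.{u} S) (m : ℤ) :
    DCoh.IsPseudoCoherentD m ((pushD (Spec.map φ)).obj (DCoh.inD (Spec S) (tilde N))) ↔
      DRing.IsPseudoCoherentModule R m ((ModuleCat.restrictScalars.{u} φ.hom).obj N) := by
  let N' : ModuleCat.{u} R := (ModuleCat.restrictScalars.{u} φ.hom).obj N
  have e : (pushD (Spec.map φ)).obj (DCoh.inD (Spec S) (tilde N)) ≅
      (DCoh.tildeD R).obj (Dual.inD R N') :=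
    pushInD _ _ ≪≫ (singleFunctor _ 0).mapIso
        ((Groth.Agent.PerfC.TildePush.tildePushIso φ).app N) ≪≫
      (((tilde.functor R).mapDerivedCategorySingleFunctor 0).app N').symm
  have h1 := GB3.isPseudoCoherentD_tildeD_iff R (Dual.inD R N') m
  exact ⟨fun h => h1.1 (pc_of_iso e h), fun h => pc_of_iso e.symm (h1.2 h)⟩

end Spec

/-- The module of sections over the polynomial ring of a chart. -/
noncomputable abbrev secMod {U : X.Opens} {R : Type u} [CommRing R] {n : ℕ}
    (φ : MvPolynomial (Fin n) R →+* Γ(X, U)) (M : X.Modules) :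
    ModuleCat.{u} (MvPolynomial (Fin n) R) :=
  (ModuleCat.restrictScalars.{u} φ).obj (ModuleCat.of Γ(X, U) Γ(M, U))

/-- The test for a quasi-coherent module is pseudo-coherence of the module of sections. -/
theorem specDatum_test_iff {U : X.Opens} {V : Y.Opens} (hU : IsAffineOpen U)
    (hV : IsAffineOpen V) (h : U ≤ f ⁻¹ᵁ V) {n : ℕ} (φ : MvPolynomial (Fin n) Γ(Y, V) →+* Γ(X, U))
    (hφ : DerSch.IsChart f U V h φ) (M : X.Modules) (hM : Coh.IsQCoh M) (m : ℤ) :
    (specDatum f hU hV h φ hφ).test m (DCoh.inD X M) ↔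
      DRing.IsPseudoCoherentModule (MvPolynomial (Fin n) Γ(Y, V)) m (secMod φ M) := by
  have hc : IsClosedImmersion (Spec.map (CommRingCat.ofHom φ)) := isClosedImmersion_specMap φ hφ.1
  have e : (restrictD hU.fromSpec).obj (DCoh.inD X M) ≅
      DCoh.inD (Spec Γ(X, U)) (tilde (R := Γ(X, U)) (ModuleCat.of Γ(X, U) Γ(M, U))) :=
    PerfLocal.restrictInD hU.fromSpec M ≪≫
      (singleFunctor _ 0).mapIso (K109.AffineHom.restrictFromSpecIso M hM hU)
  have h1 := pc_push_tilde_iff (CommRingCat.ofHom φ) (ModuleCat.of Γ(X, U) Γ(M, U)) m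
  exact ⟨fun h => h1.1 (pc_of_iso ((pushD _).mapIso e) h),
    fun h => pc_of_iso ((pushD _).mapIso e.symm) (h1.2 h)⟩

/-- A module on a closed subscheme with quasi-coherent direct image is quasi-coherent. -/
theorem isQCoh_of_push (i : W ⟶ P) [IsClosedImmersion i] (N : W.Modules)
    (h : Coh.IsQCoh ((Scheme.Modules.pushforward i).obj N)) : Coh.IsQCoh N :=
  QCohSerre.isQCoh_of_iso (asIso ((Scheme.Modules.pullbackPushforwardAdjunction i).counit.app N))
    (Groth.Agent.FormalA.PullbackQC.isQCoh_pullback i _ h)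

/-- A module which is `(-1)`-pseudo-coherent is of finite presentation. -/
theorem isFP_of_pc_neg_one (N : P.Modules) (h : DCoh.IsPseudoCoherentD (-1) (DCoh.inD P N)) :
    CohB1.IsFP N :=
  Groth.Agent.Dcoh.FTFP.isFP_of_iso (HDzero N)
    ((Groth.Agent.S0890.result (-1) (DCoh.inD P N) h).2 fun i hi => isZero_HD_inD N i (by lia))

/-- Test of a module along a datum. -/
theorem test_inD_iff (D : Datum f) (m : ℤ) (M : X.Modules) :
    D.test m (DCoh.inD X M) ↔ DCoh.IsPseudoCoherentD m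
      (DCoh.inD D.P ((Scheme.Modules.pushforward D.i).obj (M.restrict D.j))) := by
  have e : (pushD D.i).obj ((restrictD D.j).obj (DCoh.inD X M)) ≅
      DCoh.inD D.P ((Scheme.Modules.pushforward D.i).obj (M.restrict D.j)) :=
    (pushD D.i).mapIso (PerfLocal.restrictInD D.j M) ≪≫ pushInD _ _
  exact ⟨fun h => pc_of_iso e h, fun h => pc_of_iso e.symm h⟩

/-- Modules are relatively `m`-pseudo-coherent for `m > 0`. -/
theorem rel_of_pos [LocallyOfFiniteType f] (M : X.Modules) {m : ℤ} (hm : 0 < m) :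
    DerSch.IsPseudoCoherentRel f m (DCoh.inD X M) := by
  rw [isPseudoCoherentRel_iff_forall]
  exact fun D => (test_inD_iff f D m M).2 (pc_inD_of_pos _ hm)

/-- Modules are relatively `0`-pseudo-coherent iff they are of finite type. -/
theorem rel_zero_iff [LocallyOfFiniteType f] (M : X.Modules) :
    DerSch.IsPseudoCoherentRel f 0 (DCoh.inD X M) ↔ CohB1.IsFT M := by
  rw [isPseudoCoherentRel_iff_forall]
  constructor
  · intro h
    refine Groth.Agent.Dcoh.FTFP.isFT_of_cover fun x => ?_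
    obtain ⟨D, w, rfl, -, -⟩ := exists_datum f x ⊤ trivial
    exact ⟨D.W, D.j, inferInstance, ⟨w, rfl⟩,
      (isFT_push_iff _ _).1 ((pc_zero_iff _).1 ((test_inD_iff f D 0 M).1 (h D)))⟩
  · intro h D
    exact (test_inD_iff f D 0 M).2 ((pc_zero_iff _).2 ((isFT_push_iff _ _).2
      (Groth.Agent.CohqB.FiniteType.IsFT.restrict h D.j)))

/-- Modules are relatively `-1`-pseudo-coherent iff they are quasi-coherent and finitely presented relative to
the base. -/
theorem rel_neg_one_iff [LocallyOfFiniteType f] (M : X.Modules) :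
    DerSch.IsPseudoCoherentRel f (-1) (DCoh.inD X M) ↔ Coh.IsQCoh M ∧ Flatn.IsRelFP f M := by
  constructor
  · intro h
    have hM : Coh.IsQCoh M := by
      refine QCohSerre.isQCoh_of_restrict M fun x => ?_
      obtain ⟨D, w, rfl, -, -⟩ := exists_datum f x ⊤ trivial
      exact ⟨D.W, D.j, inferInstance, w, rfl, isQCoh_of_push _ _
        (Groth.Agent.PerfC.FPSections.isQCoh_of_isFP (isFP_of_pc_neg_one _
          ((test_inD_iff f D (-1) M).1 (test_of_isPseudoCoherentRel h D))))⟩
    refine ⟨hM, Set.univ, ?_, fun V _ => ⟨{U | (U : X.Opens) ≤ f ⁻¹ᵁ (V : Y.Opens)}, ?_, ?_⟩⟩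
    · rw [eq_top_iff]
      intro y _
      obtain ⟨V, hV, hyV, -⟩ := exists_isAffineOpen_mem_and_subset (x := y) (U := ⊤) trivial
      simp only [TopologicalSpace.Opens.mem_iSup]
      exact ⟨⟨V, hV⟩, trivial, hyV⟩
    · refine le_antisymm (iSup₂_le fun U hU => hU) fun x hx => ?_
      obtain ⟨U, hU, hxU, hUV⟩ := exists_isAffineOpen_mem_and_subset hx
      simp only [TopologicalSpace.Opens.mem_iSup]
      exact ⟨⟨U, hU⟩, hUV, hxU⟩
    · intro U hU hUV
      obtain ⟨n, φ, hφ⟩ := exists_chart f U.2 V.2 hUV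
      have h1 := (specDatum_test_iff f U.2 V.2 hUV φ hφ M hM (-1)).1
        (test_of_isPseudoCoherentRel h _)
      have h2 := (Groth.Agent.S6935.result _ (secMod φ M)).2.1 h1
      let _ := (f.appLE (V : Y.Opens) (U : X.Opens) hUV).hom.toAlgebra
      exact ⟨n, { φ with commutes' := fun r => congr($(hφ.2) r) }, hφ.1, h2⟩
  · rintro ⟨hM, 𝒱, h𝒱, H⟩
    refine isPseudoCoherentRel_of_data fun x => ?_
    have hx : f x ∈ (⨆ V ∈ 𝒱, (V : Y.Opens)) := by rw [h𝒱]; trivial
    simp only [TopologicalSpace.Opens.mem_iSup] at hx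
    obtain ⟨V, hV, hxV⟩ := hx
    obtain ⟨𝒰, h𝒰, H'⟩ := H V hV
    have hx : x ∈ (⨆ U ∈ 𝒰, (U : X.Opens)) := by rw [h𝒰]; exact hxV
    simp only [TopologicalSpace.Opens.mem_iSup] at hx
    obtain ⟨U, hU, hxU⟩ := hx
    have hUV : (U : X.Opens) ≤ f ⁻¹ᵁ (V : Y.Opens) := by
      rw [← h𝒰]
      exact le_iSup₂_of_le U hU le_rfl
    let _ := (f.appLE (V : Y.Opens) (U : X.Opens) hUV).hom.toAlgebra
    obtain ⟨n, ψ, hψ, hfp⟩ := H' U hU hUV
    have hφ : DerSch.IsChart f (U : X.Opens) (V : Y.Opens) hUV ψ.toRingHom :=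
      ⟨hψ, by ext r; exact ψ.commutes r⟩
    obtain ⟨y, hy⟩ : x ∈ Set.range U.2.fromSpec := by rw [U.2.range_fromSpec]; exact hxU
    refine ⟨specDatum f U.2 V.2 hUV ψ.toRingHom hφ, y, hy, ?_⟩
    exact (specDatum_test_iff f U.2 V.2 hUV ψ.toRingHom hφ M hM (-1)).2
      ((Groth.Agent.S6935.result _ (secMod ψ.toRingHom M)).2.2 hfp)

end K252.RelMod
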