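import Groth.Agent.FlatMor.K252.NilGeom
import Groth.Agent.KSix.K240.RelBasic
import Groth.Agent.PerfC.LpullFlat

/-!
# Relative pseudo-coherence and direct image along closed immersions up to nilpotents
-/

set_option autoImplicit false
universe u

open CategoryTheory CategoryTheory.Limits AlgebraicGeometry
open Groth.Agent.PerfA Groth.Agent.PerfA.Restrict Groth.Agent.PerfC.PcLocal
open Groth.Agent.PerfC.ClosedImmPc (pushD)
open K240.PushTest K240.RelData K240.RelChart
open K252.FinAlg K252.TopPush K252.TopPc K252.FinGeom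

attribute [local instance] HasDerivedCategory.standard

namespace K252.ThickPush

variable {X Y S P Q W V : Scheme.{u}}

/-- Direct image in two steps. -/
noncomputable def pushEComp (i : X ⟶ Y) [TopClosed i] (j : Y ⟶ S) [TopClosed j]
    [TopClosed (i ≫ j)] : pushE i ⋙ pushE j ≅ pushE (i ≫ j) :=
  ExactD.mapDComp (Scheme.Modules.pushforwardComp i j)

/-- Direct images along equal morphisms. -/
noncomputable def pushECongr {i i' : X ⟶ Y} [TopClosed i] [TopClosed i']
    (h : i = i') : pushE i ≅ pushE i' :=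
  ExactD.mapDIso (Scheme.Modules.pushforwardCongr h)

/-- Restriction to an open subscheme commutes with direct image. -/
noncomputable def pushERestrictIso {i : X ⟶ Y} [TopClosed i] {c : W ⟶ V}
    [TopClosed c] {l : W ⟶ X} {k : V ⟶ Y} [IsOpenImmersion l] [IsOpenImmersion k]
    (h : IsPullback l c i k) : pushE i ⋙ restrictD k ≅ restrictD l ⋙ pushE c :=
  ExactD.mapDComp (Iso.refl _) ≪≫
    (ExactD.mapDComp (Groth.Agent.Dcoh.PushRestrict.pushRestrictIsoOfIsPullback i c l k h).symm).symm

/-- Being a closed embedding is stable under base change along open immersions. -/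
theorem topClosed_of_isPullback {i : X ⟶ Y} [TopClosed i] {c : W ⟶ V} {l : W ⟶ X} {k : V ⟶ Y}
    [IsOpenImmersion k] (h : IsPullback l c i k) : TopClosed c := by
  have hl : IsOpenImmersion l := MorphismProperty.of_isPullback h.flip ‹IsOpenImmersion k›
  refine ⟨?_⟩
  have e : k ∘ c = i ∘ l := by
    ext w
    change k (c w) = i (l w)
    rw [← Scheme.Hom.comp_apply, ← h.w, Scheme.Hom.comp_apply]
  have h1 : Topology.IsEmbedding (k ∘ c) := by
    rw [e]
    exact (TopClosed.emb (i := i)).isEmbedding.comp l.isOpenEmbedding.isEmbedding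
  have h2 : Topology.IsEmbedding c := Topology.IsEmbedding.of_comp c.continuous k.continuous h1
  refine ⟨h2, ?_⟩
  have h3 : Set.range c = k ⁻¹' Set.range i := by
    ext v
    constructor
    · rintro ⟨w, rfl⟩
      exact ⟨l w, congrFun e.symm w⟩
    · rintro ⟨x, hx⟩
      obtain ⟨w, hw1, hw2⟩ := Scheme.exists_preimage_of_isPullback h x v hx
      exact ⟨w, hw2⟩
  rw [h3]
  exact (TopClosed.emb (i := i)).isClosed_range.preimage k.continuous

section

variable {p : X ⟶ S} {q : Y ⟶ S} {i : X ⟶ Y}

/-- The datum for `p` obtained from a datum for `q`. -/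
def pullDatum (w : i ≫ q = p) (D : Datum q) {k : W ⟶ X} [IsOpenImmersion k] {i' : W ⟶ D.W}
    (sq : IsPullback k i' i D.j) (c : W ⟶ V) [IsClosedImmersion c] (h : V ⟶ D.P) [Flat h]
    [LocallyOfFinitePresentation h] (hc : c ≫ h = i' ≫ D.i) : Datum p where
  W := W
  P := V
  j := k
  i := c
  p := h ≫ D.p
  open_j := inferInstance
  closed_i := inferInstance
  flat_p := inferInstance
  fp_p := inferInstance
  w := by rw [reassoc_of% hc, D.w, ← reassoc_of% sq.w, w]

/-- Comparison of the tests. -/
theorem test_pullDatum_iff (w : i ≫ q = p) [TopClosed i] (D : Datum q) {k : W ⟶ X}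
    [IsOpenImmersion k] {i' : W ⟶ D.W}
    (sq : IsPullback k i' i D.j) (c : W ⟶ V) [IsClosedImmersion c] (h : V ⟶ D.P) [Flat h]
    [LocallyOfFinitePresentation h] (hc : c ≫ h = i' ≫ D.i) [TopClosed h] (hh : PO h) (m : ℤ)
    (E : DCoh.D X) :
    D.test m ((pushE i).obj E) ↔ (pullDatum w D sq c h hc).test m E := by
  have h1 : TopClosed i' := topClosed_of_isPullback sq
  let e : (pushE D.i).obj ((restrictD D.j).obj ((pushE i).obj E)) ≅
      (pushE h).obj ((pushE c).obj ((restrictD k).obj E)) :=
    (pushE D.i).mapIso ((pushERestrictIso sq).app E) ≪≫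
      (pushEComp i' D.i).app _ ≪≫ (pushECongr hc.symm).app _ ≪≫ (pushEComp c h).symm.app _
  refine Iff.trans ?_ (iff_pushE h hh ((pushE c).obj ((restrictD k).obj E)) m).symm
  exact ⟨pc_of_iso e, pc_of_iso e.symm⟩

end

/-- Relative pseudo-coherence and direct image, for finite morphisms which locally factor through finite flat
closed embeddings. -/
theorem isPseudoCoherentRel_pushE_iff (p : X ⟶ S) (q : Y ⟶ S) [LocallyOfFiniteType p]
    [LocallyOfFiniteType q] (i : X ⟶ Y) (w : i ≫ q = p) [TopClosed i]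
    (H : ∀ D : Datum q, IsAffine D.P → ∃ (W V : Scheme.{u}) (k : W ⟶ X) (_ : IsOpenImmersion k)
      (i' : W ⟶ D.W) (_ : IsPullback k i' i D.j) (c : W ⟶ V) (_ : IsClosedImmersion c)
      (h : V ⟶ D.P) (_ : Flat h) (_ : LocallyOfFinitePresentation h) (_ : TopClosed h)
      (_ : PO h), c ≫ h = i' ≫ D.i) (m : ℤ) (E : DCoh.D X) :
    DerSch.IsPseudoCoherentRel p m E ↔ DerSch.IsPseudoCoherentRel q m ((pushE i).obj E) := by
  constructor
  · intro hE
    refine isPseudoCoherentRel_of_data fun y => ?_
    obtain ⟨D, v, hv, hD, -⟩ := exists_datum q y ⊤ trivial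
    obtain ⟨W, V, k, _, i', sq, c, _, h, _, _, _, hh, hc⟩ := H D hD
    exact ⟨D, v, hv, (test_pullDatum_iff w D sq c h hc hh m E).2 (test_of_isPseudoCoherentRel hE _)⟩
  · intro hE
    refine isPseudoCoherentRel_of_data fun x => ?_
    obtain ⟨D, v, hv, hD, -⟩ := exists_datum q (i x) ⊤ trivial
    obtain ⟨W, V, k, _, i', sq, c, _, h, _, _, _, hh, hc⟩ := H D hD
    obtain ⟨a, ha, -⟩ := Scheme.exists_preimage_of_isPullback sq x v hv.symm
    exact ⟨pullDatum w D sq c h hc, a, ha, (test_pullDatum_iff w D sq c h hc hh m E).1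
      (test_of_isPseudoCoherentRel hE D)⟩

end K252.ThickPush
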