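import Groth.Agent.FlatMor.K252.ModPC

/-!
# Direct image along morphisms which are closed embeddings of topological spaces

The results of `PerfC.ClosedPush` and `PerfC.ClosedImmPc` for morphisms of schemes whose underlying map is a closed
embedding (for instance a closed immersion up to nilpotents).
-/

set_option autoImplicit false
universe u

open CategoryTheory CategoryTheory.Limits AlgebraicGeometry TopologicalSpace Opposite
open Groth.Agent.PerfA.Restrict Groth.Agent.CycB.StalkExact ZeroObject
open Groth.Agent Groth.Agent.PerfC.ClosedPush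

namespace K252.TopPush

variable {X Y Z : Scheme.{u}}

/-- The underlying map is a closed embedding. -/
class TopClosed (i : Z ⟶ X) : Prop where
  emb : Topology.IsClosedEmbedding i

instance (priority := low) topClosed_of_isClosedImmersion (i : Z ⟶ X) [IsClosedImmersion i] :
    TopClosed i := ⟨i.isClosedEmbedding⟩

instance topClosed_comp (i : Z ⟶ X) (j : X ⟶ Y) [TopClosed i] [TopClosed j] : TopClosed (i ≫ j) :=
  ⟨by
    have := (TopClosed.emb (i := j)).comp (TopClosed.emb (i := i))
    convert this using 1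
    ext x; simp⟩

lemma res_res (N : Z.Modules) {A B C : Z.Opens} (h : B ≤ A) (h' : C ≤ B) (s : Γ(N, A)) :
    N.presheaf.map (homOfLE h').op (N.presheaf.map (homOfLE h).op s) =
      N.presheaf.map (homOfLE (h'.trans h)).op s := by
  rw [← ConcreteCategory.comp_apply, ← Functor.map_comp]
  rfl

section

variable (i : Z ⟶ X) [TopClosed i]

lemma exists_preimage_open (W : Z.Opens) (z : Z) (hz : z ∈ W) (U : X.Opens) (hU : i z ∈ U) :
    ∃ V : X.Opens, i z ∈ V ∧ V ≤ U ∧ i ⁻¹ᵁ V ≤ W := by
  obtain ⟨V, hV, hVW⟩ := (TopClosed.emb (i := i)).isInducing.isOpen_iff.1 W.2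
  refine ⟨⟨V, hV⟩ ⊓ U, ⟨?_, hU⟩, inf_le_right, ?_⟩
  · change z ∈ i ⁻¹' V
    rw [hVW]; exact hz
  · intro y hy
    have : y ∈ i ⁻¹' V := hy.1
    rw [hVW] at this; exact this

/-- Pushforward along a closed embedding of spaces preserves epimorphisms. -/
instance preservesEpi : (Scheme.Modules.pushforward i).PreservesEpimorphisms where
  preserves {M N} φ hφ := by
    refine epi_of_locally_surjective _ fun U s x hxU => ?_
    by_cases hx : x ∈ Set.range i
    · obtain ⟨z, rfl⟩ := hx
      obtain ⟨W, hWU, t, hzW, ht⟩ := Groth.Agent.Dcoh.Restrict.exists_local_preimage φ (i ⁻¹ᵁ U)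
        s z hxU
      obtain ⟨V, hV, hVU, hVW⟩ := exists_preimage_open i W z hzW U hxU
      refine ⟨V, hVU, M.presheaf.map (homOfLE hVW).op t, hV, ?_⟩
      change φ.app (i ⁻¹ᵁ V) (M.presheaf.map (homOfLE hVW).op t) =
        N.presheaf.map (homOfLE (show i ⁻¹ᵁ V ≤ i ⁻¹ᵁ U from fun _ h => hVU h)).op s
      rw [Groth.Agent.Dcoh.Restrict.app_map_apply, ht]
      exact res_res N hWU hVW s
    · let V : X.Opens := U ⊓ ⟨(Set.range i)ᶜ, (TopClosed.emb (i := i)).isClosed_range.isOpen_compl⟩
      have hV : i ⁻¹ᵁ V = ⊥ := by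
        rw [eq_bot_iff]
        intro y hy
        exact (hy.2 ⟨y, rfl⟩).elim
      have := subsingleton_of_eq_bot N (i ⁻¹ᵁ V) hV
      refine ⟨V, inf_le_left, 0, ⟨hxU, hx⟩, ?_⟩
      exact Subsingleton.elim (α := Γ(N, i ⁻¹ᵁ V)) _ _

/-- Pushforward along a closed embedding of spaces is exact. -/
instance preservesFiniteColimits : PreservesFiniteColimits (Scheme.Modules.pushforward i) := by
  rw [Functor.preservesFiniteColimits_iff_forall_exact_map_and_epi]
  intro S hS
  have := hS.epi_g
  exact ⟨((Functor.preservesFiniteLimits_iff_forall_exact_map_and_mono _).1 inferInstance S hS).1,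
    (preservesEpi i).preserves S.g⟩

/-- Pushforward along a closed embedding of spaces reflects epimorphisms. -/
lemma epi_of_epi_pushforward {M N : Z.Modules} (φ : M ⟶ N)
    (h : Epi ((Scheme.Modules.pushforward i).map φ)) : Epi φ := by
  refine epi_of_locally_surjective _ fun U s z hzU => ?_
  obtain ⟨V, hV, -, hVU⟩ := exists_preimage_open i U z hzU ⊤ trivial
  obtain ⟨W, hWV, t, hzW, ht⟩ := Groth.Agent.Dcoh.Restrict.exists_local_preimage
    ((Scheme.Modules.pushforward i).map φ) V (N.presheaf.map (homOfLE hVU).op s) (i z) hV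
  refine ⟨i ⁻¹ᵁ W, fun y hy => hVU (hWV hy), t, hzW, ?_⟩
  refine Eq.trans ht ?_
  exact res_res N hVU (show i ⁻¹ᵁ W ≤ i ⁻¹ᵁ V from fun _ h => hWV h) s

/-- Pushforward along a closed embedding of spaces reflects zero objects. -/
lemma isZero_of_isZero_pushforward {M : Z.Modules}
    (h : IsZero ((Scheme.Modules.pushforward i).obj M)) : IsZero M := by
  have : Epi (0 : (0 : Z.Modules) ⟶ M) := epi_of_epi_pushforward i _ (by
    rw [Preadditive.epi_iff_cancel_zero]
    intro P g _
    exact h.eq_of_src _ _)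
  exact IsZero.of_epi (0 : (0 : Z.Modules) ⟶ M) (isZero_zero _)

/-- The adjoint of a morphism `φ : O_X^n ⟶ i_* M` as a morphism `O_Z^n ⟶ M`. -/
lemma exists_adjoint {n : ℕ} {M : Z.Modules}
    (φ : FlatMod.freeMod X n ⟶ (Scheme.Modules.pushforward i).obj M) (h : Epi φ) :
    ∃ ψ : FlatMod.freeMod Z n ⟶ M, Epi ψ := by
  have : PreservesColimitsOfSize.{u, u} (Scheme.Modules.pullback i) :=
    FormalA.PullbackQC.preservesColimits_pullback i
  let e : (Scheme.Modules.pullback i).obj (FlatMod.freeMod X n) ≅ FlatMod.freeMod Z n :=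
    PreservesCoproduct.iso (Scheme.Modules.pullback i) _ ≪≫
      Sigma.mapIso fun _ => FormalA.PullbackQC.pullbackUnitIso i
  let ψ := ((Scheme.Modules.pullbackPushforwardAdjunction i).homEquiv _ _).symm φ
  have h1 : Epi ((Scheme.Modules.pushforward i).map ψ) := by
    have h2 := (Scheme.Modules.pullbackPushforwardAdjunction i).homEquiv_unit (X := _) (Y := _)
      (f := ψ)
    rw [Equiv.apply_symm_apply] at h2
    rw [h2] at h
    exact @epi_of_epi _ _ _ _ _ _ _ h
  have := epi_of_epi_pushforward i ψ h1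
  exact ⟨e.inv ≫ ψ, epi_comp _ _⟩

end


end K252.TopPush
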